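import Groth.Agent.ParaFLib.Sect

/-!
# Parafactorial pairs: locality
-/

set_option autoImplicit false
set_option backward.isDefEq.respectTransparency false
set_option backward.isDefEq.respectTransparency.types false
set_option linter.style.haveILetI false

noncomputable section

universe u

open CategoryTheory AlgebraicGeometry TopologicalSpace Opposite
open Groth.Agent.QCohBase Groth.Agent.GenLocus

namespace Groth.Agent.ParaFLib

variable {X : Scheme.{u}}

/-- parafactoriality on one open -/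
def PairOn (D V : X.Opens) : Prop :=
  ParaF.InvRestrictEquiv (X.homOfLE (inf_le_left : V ⊓ D ≤ V))

theorem ores_bijective_iff {A A' B B' : X.Opens} (h : A ≤ B) (h' : A' ≤ B') (ea : A = A') (eb : B = B') :
    Function.Bijective (ores h) ↔ Function.Bijective (ores h') := by
  subst ea; subst eb; rfl

theorem image_opensRange {U V : X.Opens} (h : U ≤ V) : V.ι ''ᵁ (X.homOfLE h).opensRange = U := by
  rw [← Scheme.Hom.opensRange_comp]
  simp only [Scheme.homOfLE_ι, Scheme.Opens.opensRange_ι]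

theorem oext_opens_iff {U V : X.Opens} (h : U ≤ V) {D : X.Opens} (hD : U = V ⊓ D) (A : V.toScheme.Opens) :
    OExt (X.homOfLE h).opensRange A ↔ OExt D (V.ι ''ᵁ A) := by
  have hle : V.ι ''ᵁ (A ⊓ (X.homOfLE h).opensRange) ≤ V.ι ''ᵁ A := V.ι.image_mono inf_le_left
  refine Iff.trans (b := Function.Bijective (ores hle)) Iff.rfl (ores_bijective_iff hle inf_le_left ?_ rfl)
  have e := image_opensRange h
  have hA : V.ι ''ᵁ A ≤ V := (V.ι.image_le_opensRange A).trans_eq V.opensRange_ι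
  ext x
  constructor
  · rintro ⟨y, ⟨hy1, hy2⟩, rfl⟩
    have : V.ι y ∈ U := e ▸ ⟨y, hy2, rfl⟩
    rw [hD] at this
    exact ⟨⟨y, hy1, rfl⟩, this.2⟩
  · rintro ⟨⟨y, hy, rfl⟩, hxD⟩
    have : V.ι y ∈ V.ι ''ᵁ (X.homOfLE h).opensRange := by
      rw [e, hD]; exact ⟨y.2, hxD⟩
    obtain ⟨z, hz, hzy⟩ := this
    exact ⟨y, ⟨hy, (V.ι.isOpenEmbedding.injective hzy) ▸ hz⟩, rfl⟩

/-- parafactoriality on `V` extends functions on `V` -/
theorem oext_of_pairOn {D V : X.Opens} (h : PairOn D V) : OExt D V := by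
  have := (oext_opens_iff (inf_le_left : V ⊓ D ≤ V) rfl ⊤).1 (oext_top _ h)
  exact (ores_bijective_iff _ _ (by rw [V.ι_image_top]) V.ι_image_top).1 this

theorem oext_all {D V : X.Opens} (h : ∀ U ≤ V, OExt D U) (A : V.toScheme.Opens) :
    OExt (X.homOfLE (inf_le_left : V ⊓ D ≤ V)).opensRange A :=
  (oext_opens_iff _ rfl A).2 (h _ ((V.ι.image_le_opensRange A).trans_eq V.opensRange_ι))

/-- base change of pushforward along open immersions -/
theorem restrict_pushforward_iso {U W U₁ W₁ : Scheme.{u}} (j : U ⟶ W) (j₁ : U₁ ⟶ W₁) (a : W₁ ⟶ W) (a' : U₁ ⟶ U)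
    [IsOpenImmersion j] [IsOpenImmersion j₁] [IsOpenImmersion a] [IsOpenImmersion a'] (w : j₁ ≫ a = a' ≫ j)
    (hcart : a.opensRange ⊓ j.opensRange ≤ (j₁ ≫ a).opensRange) (L₀ : U.Modules) :
    Nonempty (((Scheme.Modules.pushforward j).obj L₀).restrict a ≅
      (Scheme.Modules.pushforward j₁).obj (L₀.restrict a')) := by
  set M := (Scheme.Modules.pushforward j).obj L₀
  have : IsIso ((Scheme.Modules.restrictAdjunction j₁).unit.app (M.restrict a)) := by
    rw [Scheme.Modules.Hom.isIso_iff_isIso_app]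
    intro A
    rw [ConcreteCategory.isIso_iff_bijective, Scheme.Modules.restrictAdjunction_unit_app_app]
    have hle : a ''ᵁ (j₁ ''ᵁ (j₁ ⁻¹ᵁ A)) ≤ a ''ᵁ A := a.image_mono (j₁.image_preimage_le A)
    show Function.Bijective (mres L₀ (j.preimage_mono hle))
    refine mres_bijective_of_eq L₀ _ (le_antisymm (j.preimage_mono hle) fun u hu => ?_)
    obtain ⟨y, hy, hyu⟩ := hu
    obtain ⟨z, hz⟩ := hcart (x := j u) ⟨⟨y, hyu⟩, ⟨u, rfl⟩⟩
    have hzy : j₁ z = y := a.isOpenEmbedding.injective (((Scheme.Hom.comp_apply _ _ _).symm.trans hz).trans hyu.symm)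
    exact ⟨y, ⟨z, show j₁ z ∈ A from hzy ▸ hy, hzy⟩, hyu⟩
  exact ⟨asIso ((Scheme.Modules.restrictAdjunction j₁).unit.app (M.restrict a)) ≪≫
    (Scheme.Modules.pushforward j₁).mapIso
      (((Scheme.Modules.restrictFunctorComp j₁ a).app M).symm ≪≫ (Scheme.Modules.restrictFunctorCongr w).app M ≪≫
        (Scheme.Modules.restrictFunctorComp a' j).app M ≪≫
        (Scheme.Modules.restrictFunctor a').mapIso (asIso ((Scheme.Modules.restrictAdjunction j).counit.app L₀)))⟩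

/-- parafactoriality is local -/
theorem pairOn_of_local {D V : X.Opens}
    (h : ∀ x ∈ V, ∃ U : X.Opens, x ∈ U ∧ ∀ U' ≤ U, PairOn D U') : PairOn D V := by
  have hall : ∀ A ≤ V, OExt D A := fun A hA => (ext_unit_iff D A).1 (ext_of_local _ D A fun x hx => by
    obtain ⟨U, hxU, hU⟩ := h x (hA hx)
    exact ⟨U, hxU, fun U' hU' => (ext_unit_iff D U').2 (oext_of_pairOn (hU U' hU'))⟩)
  refine ⟨fun L L' _ hL' => hom_bijective _ (oext_all hall) L L' hL', fun L₀ h₀ => ?_⟩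
  refine (exists_extension_iff _ (oext_all hall) L₀).2 (isInvertible_of_local fun x => ?_)
  obtain ⟨U, hxU, hU⟩ := h (V.ι x) x.2
  let V₁ := V ⊓ U
  let a := X.homOfLE (inf_le_left : V₁ ≤ V)
  refine ⟨V₁, a, inferInstance, ⟨V.ι x, x.2, hxU⟩, ?_, ?_⟩
  · apply V.ι.isOpenEmbedding.injective
    rw [← Scheme.Hom.comp_apply]
    simp only [a, Scheme.homOfLE_ι]
    rfl
  let j₁ := X.homOfLE (inf_le_left : V₁ ⊓ D ≤ V₁)
  let a' := X.homOfLE (inf_le_inf_right D (inf_le_left : V₁ ≤ V))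
  have hP : PairOn D V₁ := hU V₁ inf_le_right
  have hA₁ : ∀ A, OExt j₁.opensRange A := oext_all fun A hA => oext_of_pairOn (hU A (hA.trans inf_le_right))
  obtain ⟨e⟩ := restrict_pushforward_iso (X.homOfLE (inf_le_left : V ⊓ D ≤ V)) j₁ a a'
    (by simp [a, a', j₁]) (fun y hy => by
      have h1 : V.ι y ∈ V₁ := by
        have : V.ι y ∈ V.ι ''ᵁ a.opensRange := ⟨y, hy.1, rfl⟩
        rwa [image_opensRange] at this
      have h2 : V.ι y ∈ V ⊓ D := by
        have : V.ι y ∈ V.ι ''ᵁ (X.homOfLE (inf_le_left : V ⊓ D ≤ V)).opensRange := ⟨y, hy.2, rfl⟩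
        rwa [image_opensRange] at this
      refine ⟨⟨V.ι y, h1, h2.2⟩, V.ι.isOpenEmbedding.injective ?_⟩
      rw [← Scheme.Hom.comp_apply]
      simp [a, j₁]) L₀
  exact TensorMod.isInvertible_of_iso e.symm
    ((exists_extension_iff j₁ hA₁ _).1 (hP.2 _ (TensorMod.isInvertible_restrict h₀ a')))

/-- transport to an open subscheme -/
theorem pairOn_opens_iff (W : X.Opens) (D : X.Opens) (A : W.toScheme.Opens) :
    PairOn (W.ι ⁻¹ᵁ D) A ↔ PairOn D (W.ι ''ᵁ A) := by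
  have himg : W.ι ''ᵁ (A ⊓ W.ι ⁻¹ᵁ D) = W.ι ''ᵁ A ⊓ D := by
    ext x
    constructor
    · rintro ⟨y, ⟨h1, h2⟩, rfl⟩; exact ⟨⟨y, h1, rfl⟩, h2⟩
    · rintro ⟨⟨y, hy, rfl⟩, h2⟩; exact ⟨y, ⟨hy, h2⟩, rfl⟩
  let e₁ := W.ι.isoImage (A ⊓ W.ι ⁻¹ᵁ D) ≪≫ X.isoOfEq himg
  let e₂ := W.ι.isoImage A
  have w : e₁.hom ≫ X.homOfLE inf_le_left = W.toScheme.homOfLE inf_le_left ≫ e₂.hom := by
    rw [← cancel_mono (W.ι ''ᵁ A).ι]
    simp [e₁, e₂]
  exact ⟨fun h => of_square _ _ e₁.inv e₂.inv (by rw [Iso.inv_comp_eq, ← Category.assoc, w, Category.assoc, Iso.hom_inv_id, Category.comp_id]) h,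
    fun h => of_square _ _ e₁.hom e₂.hom w h⟩

end Groth.Agent.ParaFLib
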