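import Groth.Prelude.Def_ParaF
import Groth.Agent.TensorMod.Invertible

/-!
# Formal properties of `InvRestrictEquiv`
-/

set_option autoImplicit false
set_option backward.isDefEq.respectTransparency.types false
set_option linter.style.haveILetI false

noncomputable section

universe u

open CategoryTheory AlgebraicGeometry TopologicalSpace

namespace Groth.Agent.ParaFLib

variable {U V W : Scheme.{u}}

open Scheme.Modules

theorem map_bijective_of_natIso {C D : Type*} [Category C] [Category D] {F G : C ⥤ D} (e : F ≅ G)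
    {A B : C} (h : Function.Bijective (F.map : (A ⟶ B) → _)) : Function.Bijective (G.map : (A ⟶ B) → _) := by
  have : (G.map : (A ⟶ B) → _) = (fun m => e.inv.app A ≫ m ≫ e.hom.app B) ∘ F.map := funext fun φ => by simp
  rw [this]
  exact ((Iso.homCongr (e.app A) (e.app B)).bijective).comp h

theorem comp (j₁ : U ⟶ V) (j₂ : V ⟶ W) [IsOpenImmersion j₁] [IsOpenImmersion j₂]
    (h₁ : ParaF.InvRestrictEquiv j₁) (h₂ : ParaF.InvRestrictEquiv j₂) : ParaF.InvRestrictEquiv (j₁ ≫ j₂) := by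
  constructor
  · intro L L' hL hL'
    refine map_bijective_of_natIso (restrictFunctorComp j₁ j₂).symm ?_
    exact (h₁.1 _ _ (TensorMod.isInvertible_restrict hL j₂) (TensorMod.isInvertible_restrict hL' j₂)).comp
      (h₂.1 _ _ hL hL')
  · intro L₀ h₀
    obtain ⟨M, hM, ⟨eM⟩⟩ := h₁.2 L₀ h₀
    obtain ⟨L, hL, ⟨eL⟩⟩ := h₂.2 M hM
    exact ⟨L, hL, ⟨(restrictFunctorComp j₁ j₂).app L ≪≫ (restrictFunctor j₁).mapIso eL ≪≫ eM⟩⟩

theorem congr {j j' : U ⟶ V} [IsOpenImmersion j] [IsOpenImmersion j'] (e : j = j')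
    (h : ParaF.InvRestrictEquiv j) : ParaF.InvRestrictEquiv j' := by
  subst e; exact h

theorem of_iso (j : U ⟶ V) [IsIso j] : ParaF.InvRestrictEquiv j := by
  let η : 𝟭 V.Modules ≅ restrictFunctor j ⋙ restrictFunctor (inv j) :=
    restrictFunctorId.symm ≪≫ restrictFunctorCongr (IsIso.inv_hom_id j).symm ≪≫ restrictFunctorComp (inv j) j
  let ε : restrictFunctor (inv j) ⋙ restrictFunctor j ≅ 𝟭 U.Modules :=
    (restrictFunctorComp j (inv j)).symm ≪≫ restrictFunctorCongr (IsIso.hom_inv_id j) ≪≫ restrictFunctorId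
  let E : V.Modules ≌ U.Modules := CategoryTheory.Equivalence.mk (restrictFunctor j) (restrictFunctor (inv j)) η ε
  exact ⟨fun L L' _ _ => ⟨E.functor.map_injective, E.functor.map_surjective⟩,
    fun L₀ h₀ => ⟨L₀.restrict (inv j), TensorMod.isInvertible_restrict h₀ _, ⟨ε.app L₀⟩⟩⟩

/-- cancellation: if `j₁` and `j₁ ≫ j₂` are equivalences, so is `j₂` -/
theorem cancel_left (j₁ : U ⟶ V) (j₂ : V ⟶ W) [IsOpenImmersion j₁] [IsOpenImmersion j₂]
    (h₁ : ParaF.InvRestrictEquiv j₁) (h : ParaF.InvRestrictEquiv (j₁ ≫ j₂)) : ParaF.InvRestrictEquiv j₂ := by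
  have hom : ∀ L L' : W.Modules, PicF.IsInvertible L → PicF.IsInvertible L' →
      Function.Bijective (fun φ : L ⟶ L' => (restrictFunctor j₂).map φ) := by
    intro L L' hL hL'
    refine (h₁.1 _ _ (TensorMod.isInvertible_restrict hL j₂) (TensorMod.isInvertible_restrict hL' j₂)).of_comp_iff' _ |>.1 ?_
    exact map_bijective_of_natIso (restrictFunctorComp j₁ j₂) (h.1 L L' hL hL')
  refine ⟨hom, fun L₀ h₀ => ?_⟩
  obtain ⟨L, hL, ⟨eL⟩⟩ := h.2 (L₀.restrict j₁) (TensorMod.isInvertible_restrict h₀ j₁)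
  let e' : (L.restrict j₂).restrict j₁ ≅ L₀.restrict j₁ := ((restrictFunctorComp j₁ j₂).app L).symm ≪≫ eL
  have hA := TensorMod.isInvertible_restrict hL j₂
  obtain ⟨f, hf⟩ := (h₁.1 _ _ hA h₀).2 e'.hom
  obtain ⟨g, hg⟩ := (h₁.1 _ _ h₀ hA).2 e'.inv
  simp only at hf hg
  refine ⟨L, hL, ⟨⟨f, g, (h₁.1 _ _ hA hA).1 ?_, (h₁.1 _ _ h₀ h₀).1 ?_⟩⟩⟩
  · simp [hf, hg]
  · simp [hf, hg]

/-- invariance under isomorphism of arrows -/
theorem of_square {U' V' : Scheme.{u}} (j : U ⟶ V) (j' : U' ⟶ V') [IsOpenImmersion j] [IsOpenImmersion j']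
    (a : U' ⟶ U) (b : V' ⟶ V) [IsIso a] [IsIso b] (w : a ≫ j = j' ≫ b)
    (h : ParaF.InvRestrictEquiv j) : ParaF.InvRestrictEquiv j' := by
  refine congr (j := (a ≫ j) ≫ inv b) (by rw [w, Category.assoc, IsIso.hom_inv_id, Category.comp_id]) ?_
  exact comp _ _ (comp _ _ (of_iso a) h) (of_iso (inv b))

/-- invertibility is local -/
theorem isInvertible_of_local {X : Scheme.{u}} {M : X.Modules}
    (h : ∀ x : X, ∃ (X₁ : Scheme.{u}) (a : X₁ ⟶ X) (_ : IsOpenImmersion a) (x₁ : X₁),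
      a x₁ = x ∧ PicF.IsInvertible (M.restrict a)) : PicF.IsInvertible M := fun x => by
  obtain ⟨X₁, a, _, x₁, rfl, ha⟩ := h x
  obtain ⟨A, hA, ⟨t⟩⟩ := ha x₁
  let e := a.isoImage A
  refine ⟨a ''ᵁ A, ⟨x₁, hA, rfl⟩, ⟨?_⟩⟩
  refine (restrictFunctorCongr (show (a ''ᵁ A).ι = e.inv ≫ A.ι ≫ a by
    rw [← cancel_epi e.hom, Iso.hom_inv_id_assoc]; exact a.isoImage_hom_ι A)).app M ≪≫ ?_
  refine (restrictFunctorComp e.inv (A.ι ≫ a)).app M ≪≫ (restrictFunctor e.inv).mapIso ?_ ≪≫ restrictUnitIso e.inv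
  exact (restrictFunctorComp A.ι a).app M ≪≫ t

end Groth.Agent.ParaFLib
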