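import Groth.Agent.ParaFLib.Cat
import Groth.Agent.GenLocus.Extend
import Groth.Agent.ProjUPLib.TwistN

/-!
# Sections across a closed subset, and parafactorial pairs as a local condition
-/

set_option autoImplicit false
set_option backward.isDefEq.respectTransparency false
set_option backward.isDefEq.respectTransparency.types false
set_option linter.style.haveILetI false

noncomputable section

universe u

open CategoryTheory AlgebraicGeometry TopologicalSpace Opposite
open Groth.Agent.QCohBase Groth.Agent.GenLocus

namespace Groth.Agent.ParaFLib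

variable {X : Scheme.{u}}

/-- restriction of sections of `M` from `V` to `V ⊓ D` is bijective -/
def Ext (M : X.Modules) (D V : X.Opens) : Prop :=
  Function.Bijective (mres M (inf_le_left : V ⊓ D ≤ V))

/-- restriction of functions from `V` to `V ⊓ D` is bijective -/
def OExt (D V : X.Opens) : Prop :=
  Function.Bijective (ores (X := X) (inf_le_left : V ⊓ D ≤ V))

theorem ext_unit_iff (D V : X.Opens) : Ext (Coh.structureModule X) D V ↔ OExt D V := Iff.rfl

theorem mres_bijective_of_eq (M : X.Modules) {A B : X.Opens} (h : A ≤ B) (e : A = B) :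
    Function.Bijective (mres M h) := by
  subst e
  exact ⟨fun a b hab => by simpa using hab, fun a => ⟨a, by simp⟩⟩

theorem mres_bijective_iff (M : X.Modules) {A A' B : X.Opens} (h : A ≤ B) (h' : A' ≤ B) (e : A = A') :
    Function.Bijective (mres M h) ↔ Function.Bijective (mres M h') := by
  subst e; rfl

/-- `Ext` is local -/
theorem ext_of_local (M : X.Modules) (D V : X.Opens)
    (h : ∀ x ∈ V, ∃ U : X.Opens, x ∈ U ∧ ∀ U' : X.Opens, U' ≤ U → Ext M D U') : Ext M D V := by
  choose U hxU hU using fun x : V => h x.1 x.2
  let A : V → X.Opens := fun x => V ⊓ U x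
  have hA : ∀ x (A' : X.Opens), A' ≤ A x → Ext M D A' := fun x A' hA' => hU x A' (hA'.trans inf_le_right)
  have hcov : V ≤ iSup A := fun x hx => Opens.mem_iSup.2 ⟨⟨x, hx⟩, hx, hxU ⟨x, hx⟩⟩
  constructor
  · intro s t hst
    refine eq_of_iSup_le M A (fun x => inf_le_left) hcov s t fun x => (hA x _ le_rfl).1 ?_
    have := congrArg (mres M (inf_le_inf_right D (inf_le_left : A x ≤ V))) hst
    simp only [mres_mres] at this ⊢
    exact this
  · intro t
    choose s hs using fun x => (hA x _ le_rfl).2 (mres M (inf_le_inf_right D (inf_le_left : A x ≤ V)) t)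
    obtain ⟨r, hr, -⟩ := TopCat.Sheaf.existsUnique_gluing' ⟨M.presheaf, M.isSheaf⟩ A V
      (fun x => homOfLE inf_le_left) hcov s fun x y => by
        refine (hA x (A x ⊓ A y) inf_le_left).1 ?_
        have e1 := congrArg (mres M (inf_le_inf_right D (inf_le_left : A x ⊓ A y ≤ A x))) (hs x)
        have e2 := congrArg (mres M (inf_le_inf_right D (inf_le_right : A x ⊓ A y ≤ A y))) (hs y)
        show mres M _ (mres M inf_le_left (s x)) = mres M _ (mres M inf_le_right (s y))
        simp only [mres_mres] at e1 e2 ⊢
        exact e1.trans ((mres_mres M _ _ _).trans ((mres_mres M _ _ _).symm.trans e2.symm))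
    refine ⟨r, eq_of_iSup_le M (fun x => A x ⊓ D) (fun x => inf_le_inf_right D inf_le_left) ?_ _ _ fun x => ?_⟩
    · intro y hy
      obtain ⟨x, hx⟩ := Opens.mem_iSup.1 (hcov hy.1)
      exact Opens.mem_iSup.2 ⟨x, hx, hy.2⟩
    · rw [← hs x, ← (show mres M (inf_le_left : A x ≤ V) r = s x from hr x)]
      exact (mres_mres M _ _ _).trans (mres_mres M _ _ _).symm

/-- sections of invertible modules extend when functions do -/
theorem ext_of_invertible {M : X.Modules} (hM : PicF.IsInvertible M) (D V : X.Opens)
    (h : ∀ U : X.Opens, U ≤ V → OExt D U) : Ext M D V := by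
  refine ext_of_local M D V fun x hx => ?_
  obtain ⟨U, -, hxU, hUV, e, he⟩ := exists_isFrame hM hx
  refine ⟨U, hxU, fun U' hU' => ?_⟩
  have b1 := he U' hU'
  have b2 := he (U' ⊓ D) (inf_le_left.trans hU')
  refine (Function.Bijective.of_comp_iff (mres M (inf_le_left : U' ⊓ D ≤ U')) b1).1 ?_
  have : (mres M (inf_le_left : U' ⊓ D ≤ U')) ∘ (fun r : Γ(X, U') => r • mres M hU' e) =
      (fun r : Γ(X, (U' ⊓ D : X.Opens)) => r • mres M (inf_le_left.trans hU') e) ∘ ores inf_le_left :=
    funext fun r => by simp only [Function.comp_apply, mres_smul, mres_mres]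
  rw [this]
  exact b2.comp (h U' (hU'.trans hUV))

section Mor

variable {U W : Scheme.{u}} (j : U ⟶ W) [IsOpenImmersion j]

theorem isIso_unit {M : W.Modules} (hM : PicF.IsInvertible M) (h : ∀ A, OExt j.opensRange A) :
    IsIso ((Scheme.Modules.restrictAdjunction j).unit.app M) := by
  rw [Scheme.Modules.Hom.isIso_iff_isIso_app]
  intro A
  rw [ConcreteCategory.isIso_iff_bijective, Scheme.Modules.restrictAdjunction_unit_app_app]
  refine (mres_bijective_iff M _ inf_le_left ?_).2 (ext_of_invertible hM _ _ fun A' _ => h A')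
  rw [Scheme.Hom.image_preimage_eq_opensRange_inf, inf_comm]

/-- morphisms of invertible modules are determined off the closed set -/
theorem hom_bijective (h : ∀ A, OExt j.opensRange A) (L L' : W.Modules) (hL' : PicF.IsInvertible L') :
    Function.Bijective (fun φ : L ⟶ L' => (Scheme.Modules.restrictFunctor j).map φ) := by
  haveI := isIso_unit j hL' h
  let adj := Scheme.Modules.restrictAdjunction j
  refine ((adj.homEquiv L _).bijective.of_comp_iff' _).1 ?_
  have : (adj.homEquiv L _) ∘ (fun φ : L ⟶ L' => (Scheme.Modules.restrictFunctor j).map φ) =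
      fun φ => φ ≫ adj.unit.app L' := funext fun φ => by
    simp [Adjunction.homEquiv_unit]
  rw [this]
  exact ((asIso (adj.unit.app L')).homToEquiv).bijective

/-- a line bundle extends iff its pushforward is invertible -/
theorem exists_extension_iff (h : ∀ A, OExt j.opensRange A) (L₀ : U.Modules) :
    (∃ L : W.Modules, PicF.IsInvertible L ∧ Nonempty (L.restrict j ≅ L₀)) ↔
      PicF.IsInvertible ((Scheme.Modules.pushforward j).obj L₀) := by
  let adj := Scheme.Modules.restrictAdjunction j
  constructor
  · rintro ⟨L, hL, ⟨e⟩⟩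
    haveI := isIso_unit j hL h
    exact TensorMod.isInvertible_of_iso (asIso (adj.unit.app L) ≪≫ (Scheme.Modules.pushforward j).mapIso e) hL
  · exact fun hP => ⟨_, hP, ⟨asIso (adj.counit.app L₀)⟩⟩

theorem sect_bijective (M : W.Modules) :
    Function.Bijective (fun s : Coh.structureModule W ⟶ M => sect s ⊤) := by
  refine ⟨fun s t hst => Scheme.Modules.hom_ext _ _ fun A => ?_, fun τ => ⟨homOfSection M τ, ?_⟩⟩
  · refine ConcreteCategory.hom_ext _ _ fun r => ?_
    rw [app_eq_smul, app_eq_smul, ← mres_sect s (le_top : A ≤ ⊤), ← mres_sect t (le_top : A ≤ ⊤)]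
    exact congrArg (fun z => (id r : Γ(W, A)) • mres M (le_top : A ≤ ⊤) z) hst
  · simp only [sect_homOfSection, mres_refl]

/-- full faithfulness on the structure sheaf gives extension of global functions -/
theorem oext_top (h : ParaF.InvRestrictEquiv j) : OExt j.opensRange ⊤ := by
  let O := Coh.structureModule W
  let adj := Scheme.Modules.restrictAdjunction j
  have b := h.1 O O (PicLoc.isInvertible_structureModule W) (PicLoc.isInvertible_structureModule W)
  have b2 : Function.Bijective (fun φ : O ⟶ O => φ ≫ adj.unit.app O) := by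
    have : (fun φ : O ⟶ O => φ ≫ adj.unit.app O) =
        (adj.homEquiv O _) ∘ (fun φ : O ⟶ O => (Scheme.Modules.restrictFunctor j).map φ) := funext fun φ => by
      simp [Adjunction.homEquiv_unit]
    rw [this]
    exact (adj.homEquiv O _).bijective.comp b
  have b3 : Function.Bijective ((adj.unit.app O).app (⊤ : W.Opens)) := by
    refine ((sect_bijective O).of_comp_iff _).1 ?_
    exact (sect_bijective _).comp b2
  rw [Scheme.Modules.restrictAdjunction_unit_app_app] at b3
  exact (mres_bijective_iff O (B := ⊤) (j.image_preimage_le ⊤) inf_le_left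
    (by rw [Scheme.Hom.image_preimage_eq_opensRange_inf, inf_comm])).1 b3

end Mor

end Groth.Agent.ParaFLib
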